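import Cfsg.Agent.Lib.Q4.X1
import Cfsg.Agent.Lib.Q4.X3
import Cfsg.Agent.Lib.Q4.X4
import Cfsg.Prelude.Def_Spor_J2
import Cfsg.Prelude.Def_Spor_J3
import Cfsg.Prelude.Def_Spor_Conway
import Cfsg.Agent.Lib.Mod.J2
import Cfsg.Agent.Lib.J3.Basic
import Cfsg.Agent.Lib.Leech.Orders

/-!
# Exclusions in odd characteristic: `J₂`, `J₃`, `McL`
-/

set_option autoImplicit false

namespace Cfsg.Lib.Q4

open scoped MatrixGroups Matrix commutatorElement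

namespace X5

open Cfsg.Lib.Calc Cfsg.Lib.F2

/-- the binary matrix of a word -/
noncomputable def wM (d : ℕ) (L w : List ℕ) : ℕ :=
  List.rec (idM d) (fun i _ ih => forceN ih fun Y => mmul d (F2.nth (idM d) L i) Y) w

theorem good_wM {G X : Type*} [Group G] [MulAction G X] {d : ℕ} {code : X → ℕ} (hc : ∀ x, code x < 2 ^ d)
    {H : Subgroup G} {L : List ℕ} (hL : ∀ C ∈ L, Good d code H C) (w : List ℕ) : Good d code H (wM d L w) := by
  induction w with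
  | nil => exact Good.one hc H
  | cons i w ih =>
    rw [show wM d L (i :: w) = mmul d (F2.nth (idM d) L i) (wM d L w) from forceN_eq _ _]
    refine Good.mul ?_ ih
    rcases F2.nth_mem (idM d) L i with e | e
    exacts [e.symm ▸ Good.one hc H, hL _ e]

theorem j3_p {F : Type*} [Field F] {ω : F} (hω : F2.IsF4 ω) {p l k : ℕ} (h : Ob p (Spor.J3 F ω)) (hl : l.Prime)
    (h2 : l ≠ 2) (h3 : k ^ 3 % l ≠ 1) (h4 : k ^ 4 % l ≠ 1) (u w : List ℕ)
    (e : forceB (wM 18 J3.gL u) (fun A => forceB (wM 18 J3.gL w) fun S =>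
      band (band (Nat.beq (mpow 18 A l) (idM 18)) (mne 18 9 (q4 9) (mmul 18 S A) (mmul 18 A S)))
        (Nat.beq (mmul 18 S A) (mmul 18 (mpow 18 A k) S))) = true) : p = l := by
  have c := J3.coded hω
  obtain ⟨a, ma, ha⟩ := good_wM c.lt (J3.good_g' hω) u
  obtain ⟨s, ms, hs⟩ := good_wM c.lt (J3.good_g' hω) w
  simp only [forceB_eq, band_eq_true, beq_iff] at e
  have e1 : (⟨a, ma⟩ : Spor.threeJ3 F ω) ^ l = 1 := Subtype.ext (c.eq_one (J3.ker_eq hω) (e.1.1 ▸ ha.pow c.lt l))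
  have e2 : (⟨s, ms⟩ : Spor.threeJ3 F ω) * ⟨a, ma⟩ = ⟨a, ma⟩ ^ k * ⟨s, ms⟩ :=
    Subtype.ext ((hs.mul ha).eq_of_ker c (J3.ker_eq hω) (e.2 ▸ (ha.pow c.lt k).mul hs))
  by_contra n
  let π := QuotientGroup.mk' (Subgroup.center (Spor.threeJ3 F ω))
  exact (h.wtc (k := k) hl h2 (Ne.symm n) (a := π ⟨a, ma⟩) (s := π ⟨s, ms⟩) (by rw [← map_pow, e1, map_one])
    (fun e0 => (hs.mul ha).ne' (J3.sur hω) (ha.mul hs) e.1.2 (congrArg Subtype.val
      (Subgroup.mem_center_iff.1 ((QuotientGroup.eq_one_iff _).1 e0) ⟨s, ms⟩)))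
    (by rw [mul_inv_eq_iff_eq_mul, ← map_pow, ← map_mul, ← map_mul, e2])).elim h3 h4

end X5

open Cfsg.Lib.Grp

namespace Ob

variable {X : Type*} [Group X] [Finite X] {p : ℕ} (h : Ob p X)
include h

/-- `o5b` for `Q = 2^{1+4}` in the centraliser `Q.A₅` of a 2-central involution (`C(Q) ≤ Q`; abelian subgroups of an
extraspecial group of order 32 have order at most eight), see `S1623`, `T2.J`; or `U₃(3) ≤ J₂` (`S1651`) and
`not_psu`. -/
theorem not_j2 (h2 : p ≠ 2) (e : Spor.IsoJ2 X) : False := by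
  obtain ⟨_, _, _, γ, C⟩ := Mod.J2.hasCx e [([0, 0, 0, 1, 0, 1, 0, 0, 0, 1, 0, 1], 1),
    ([1, 0, 0, 1, 0, 0, 1, 0, 1, 0, 0, 1, 0, 1, 0, 1, 0, 0, 1, 0, 0, 0, 0, 1, 0], 1), ([2, 3, 2, 2, 3, 3], 1),
    ([0, 0, 0, 1, 0, 1, 0, 0, 1, 0, 1, 0, 1], 1)]
  have k := C.weqs (of_bldK (k := fun D => weqs (Calc.get 7) D Mod.J2.bs
    [([2, 2, 2], []), ([3, 3, 3], []), ([2, 3], [4, 3, 2]), ([2, 4], [4, 2]), ([3, 4], [4, 3]), ([4, 5, 4], [5])])
    (by decide +kernel))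
  have n := C.wne (of_bldK (k := fun D => wne (Calc.get 7) D Mod.J2.bs [4] []) (by decide +kernel))
  simp only [List.forall_mem_cons, wd_cons, wd_nil, mul_one, ← mul_assoc] at k n
  obtain ⟨k1, k2, k3, k4, k5, k6, -⟩ := k
  have z : ⁅γ 2, γ 3⁆ = γ 4 := by rw [commutatorElement_def, k3]; group
  exact h.not_heis Nat.prime_three (by decide) (x := γ 2) (y := γ 3) (s := γ 5) ⟨1, by rwa [pow_one, pow_three']⟩
    ⟨1, by rwa [pow_one, pow_three']⟩ (z ▸ k4) (z ▸ k5) (z ▸ n)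
    (by rw [z, mul_inv_eq_iff_eq_mul, eq_inv_mul_iff_mul_eq, ← mul_assoc, k6])

/-- As `not_j2` (`S2135`, `T2.J`), or `SL₂(16) ≤ J₃` (`S1652`) and `not_l2`. -/
theorem not_j3 (h2 : p ≠ 2) (e : Spor.IsoJ3 X) : False := by
  obtain ⟨F, _, _, ω, hF, hω, ⟨e⟩⟩ := e
  have p1 := X5.j3_p (F2.IsF4.of_card hF hω) (h.equiv e) (l := 19) (k := 16) (by decide) (by decide) (by decide)
    (by decide) [0] [1, 1, 1, 1, 1, 1, 1, 1, 1, 1, 1, 0, 0, 0, 0, 0, 1, 1, 1, 1, 0, 0, 0, 0, 0, 0, 0, 0, 0, 0, 0, 0,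
      0, 1, 0, 0, 0, 0, 0, 1, 1, 1] (by decide +kernel)
  have p2 := X5.j3_p (F2.IsF4.of_card hF hω) (h.equiv e) (l := 17) (k := 8) (by decide) (by decide) (by decide)
    (by decide) [0, 0, 1, 0, 1, 1, 1] [0, 0, 0, 1, 1, 0, 1, 1, 1, 1, 1, 0, 0, 0, 0, 0, 0, 0, 0, 0, 0, 0, 0, 1, 1]
    (by decide +kernel)
  omega

/-- `S2132`: `C(z) / ⟨z⟩ ≅ A₈`.  `o7` for the preimage `Q` of the translation group `2³` and a lift of order seven of
the Singer cycle, which does not centralise `Q`.  Or a subgroup `M₂₂`, `M₁₁` (`Leech` library) and `of_inj`. -/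
theorem not_mcl (h2 : p ≠ 2) (e : Spor.IsoMcL X) : False := by
  exact (((h.equiv (e.some.trans Leech.mclEquiv.symm)).of_inj
    (Subgroup.inclusion (Leech.mcl_inf_U'.ge.trans inf_le_left)) (Subgroup.inclusion_injective _)).equiv
      Leech.m22Equiv.symm).not_m22 ⟨Mathieu.eM22⟩

end Ob

end Cfsg.Lib.Q4
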