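import Cfsg.Agent.Lib.Q4.Ob2
import Cfsg.Prelude.Def_ChevG2
import Cfsg.Prelude.Def_LieTwisted
import Cfsg.Prelude.Def_Spor_Ly
import Cfsg.Agent.Lib.Q4.X1
import Cfsg.Agent.Lib.MD.G2S
import Cfsg.Agent.Lib.Ree.Inst
import Cfsg.Agent.Lib.Q5H.D4
import Cfsg.Agent.S1710

/-!
# Exclusions: `G₂`, `³D₄`, Ree groups, the Lyons group
-/

set_option autoImplicit false

namespace Cfsg.Lib.Q4

open scoped MatrixGroups Matrix commutatorElement

theorem X1.g2_core {p : ℕ} {K : Type} [Field K] [Fintype K] (h : Ob p (Lie.chevG2.group K))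
    (ho : Odd (Fintype.card K)) : False := by
  obtain ⟨l, hl, h2, _, -⟩ := X1.odd_char ho
  obtain ⟨π, hπ⟩ := MD.G2.exists_pi (F := K)
  refine (X1.rh_sl (K := K) l (i := (0 : Fin 3)) (j := 1) (k := 2) (by decide) (by decide) (by decide)).not h hl h2 π
    fun c => one_ne_zero (α := K) ?_
  rw [hπ, ← MD.G2.x_zero (MD.G2.rA (0, 2))] at c
  exact MD.G2.faith.x_inj c

namespace Ob

variable {X : Type*} [Group X] [Finite X] {p : ℕ} (h : Ob p X) {K : Type} [Field K] [Fintype K]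
include h

/-- `not_heis` with long root elements `x = x_b(1)`, `y = x_{3a+b}(1)`, `⁅x, y⁆ = x_{3a+2b}(±1)`, inverted by a torus
element (the long roots give `SL₃(K)`; if the library has `SL₃(K) →* G₂(K)` injective, use `of_inj` and matrices). -/
theorem not_g2 (ho : Odd (Fintype.card K)) (e : X ≃* Lie.chevG2.group K) : False :=
  X1.g2_core (h.equiv e) ho

/-- As `not_g2`: long root elements with parameter `1`; or `G₂(r) ≤ ³D₄(r)` and `of_inj`. -/
theorem not_d4 {r : ℕ} (ho : Odd r) (hr : Fintype.card K = r ^ 3) (e : X ≃* Lie.twistedD4 K r) : False := by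
  obtain ⟨F, _, _, f, hF, hf⟩ := Q5H.g2_le_d4 hr
  exact X1.g2_core ((h.equiv e).of_inj f hf) (hF ▸ ho)

/-- `not_heis`, `l = 3`: `x ∈ U \ U'`, `y ∈ U' \ Z(U)` with `1 ≠ ⁅x, y⁆ ∈ Z(U)`; the involution of the torus inverts
`Z(U)`. -/
theorem not_ree (e : Lie.IsoRee X) : False := by
  obtain ⟨K, _, _, m, -, hK, ⟨e⟩⟩ := e
  obtain ⟨M, -⟩ := Ree.exists_model hK
  have c : ⁅M.u 1 0 0, M.u 0 1 0⁆ = M.u 0 0 1 := by
    rw [commutatorElement_def, M.u_conj, M.u_inv, M.u_mul]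
    simp
  refine X1.RH.not (h.equiv e) Nat.prime_three (by decide) (u := M.u 0 0 1) ⟨_, _, M.h (-1), ⟨2, M.u_pow_nine ..⟩,
    ⟨2, M.u_pow_nine ..⟩, c, ?_, ?_, ?_⟩ (.id _) (by simp [M.u_eq_one])
  · simp [commute_iff_eq, M.u_mul]
  · simp [commute_iff_eq, M.u_mul]
  · rw [M.h_u, M.u_inv]
    simp

/-- `S1710`: `G₂(5) ≤ Ly`; `sub` and `not_g2`. -/
theorem not_ly (e : Spor.IsoLy X) : False := by
  obtain ⟨e⟩ := e
  obtain ⟨K, _, _, hK, ⟨f⟩⟩ := Cfsg.Agent.S1710.result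
  exact X1.g2_core (((h.equiv e).sub _).equiv f) (hK ▸ by decide)

end Ob

end Cfsg.Lib.Q4
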